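import Mathlib

/-!
# Universal splitting algebras of monic polynomials

For a monic polynomial `P` over a commutative ring `A` there is a finite free, faithfully flat
`A`-algebra over which `P` is a product of linear factors.  Also: given finitely many elements of
an algebra, each killed by a split monic polynomial, a finite free algebra with sections
"covering all primes" and surjecting onto the subalgebra they generate.
-/

set_option autoImplicit false
set_option backward.isDefEq.respectTransparency.types false
set_option synthInstance.maxHeartbeats 400000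
set_option maxHeartbeats 4000000
set_option linter.style.haveILetI false
set_option linter.unusedSectionVars false
set_option linter.unusedVariables false

universe u

namespace Groth.Agent.Helper2.SplitAlg

open Polynomial

/-- `AdjoinRoot` of a monic polynomial of positive degree is faithfully flat. -/
lemma adjoinRoot_nontrivial {A : Type u} [CommRing A] [Nontrivial A] (P : A[X]) (hP : P.Monic)
    (hd : 0 < P.natDegree) : Nontrivial (AdjoinRoot P) := by
  have hne := (AdjoinRoot.powerBasis' hP).basis.ne_zero
    (⟨0, by rw [AdjoinRoot.powerBasis'_dim]; exact hd⟩ : Fin (AdjoinRoot.powerBasis' hP).dim)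
  exact ⟨⟨_, 0, hne⟩⟩

lemma adjoinRoot_faithfullyFlat {A : Type u} [CommRing A] (P : A[X]) (hP : P.Monic)
    (hd : 0 < P.natDegree) : Module.FaithfullyFlat A (AdjoinRoot P) := by
  haveI : Module.Free A (AdjoinRoot P) := Module.Free.of_basis (AdjoinRoot.powerBasis' hP).basis
  rcases subsingleton_or_nontrivial A with h | h
  · refine ⟨?_⟩
    intro m hm
    exact absurd (Subsingleton.elim m ⊤) hm.ne_top
  · haveI : Nontrivial (AdjoinRoot P) := adjoinRoot_nontrivial P hP hd
    infer_instance

theorem exists_splitting : ∀ (d : ℕ) (A : Type u) [CommRing A] (P : A[X]), P.Monic →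
    P.natDegree = d →
    ∃ (A' : Type u) (_ : CommRing A') (_ : Algebra A A') (α : Fin d → A'),
      Module.Free A A' ∧ Module.Finite A A' ∧ Module.FaithfullyFlat A A' ∧
      P.map (algebraMap A A') = ∏ l, (X - C (α l)) := by
  intro d
  induction d with
  | zero =>
    intro A _ P hP hd
    refine ⟨A, inferInstance, inferInstance, Fin.elim0, inferInstance, inferInstance,
      inferInstance, ?_⟩
    have : P = 1 := Polynomial.eq_one_of_monic_natDegree_zero hP hd
    simp [this]
  | succ d ih =>
    intro A _ P hP hd
    rcases subsingleton_or_nontrivial A with hA | hA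
    · refine ⟨A, inferInstance, inferInstance, fun _ => 0, inferInstance, inferInstance,
        inferInstance, ?_⟩
      exact Subsingleton.elim _ _
    haveI : Nontrivial (AdjoinRoot P) := adjoinRoot_nontrivial P hP (by omega)
    have hfree₁ : Module.Free A (AdjoinRoot P) :=
      Module.Free.of_basis (AdjoinRoot.powerBasis' hP).basis
    have hfin₁ : Module.Finite A (AdjoinRoot P) := (AdjoinRoot.powerBasis' hP).finite
    have hff₁ : Module.FaithfullyFlat A (AdjoinRoot P) :=
      adjoinRoot_faithfullyFlat P hP (by omega)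
    set r : AdjoinRoot P := AdjoinRoot.root P with hr
    set P₁ : (AdjoinRoot P)[X] := P.map (algebraMap A (AdjoinRoot P)) with hP₁def
    have hroot : P₁.IsRoot r := by
      rw [IsRoot, hP₁def, eval_map, AdjoinRoot.algebraMap_eq, AdjoinRoot.eval₂_root]
    set Q : (AdjoinRoot P)[X] := P₁ /ₘ (X - C r) with hQdef
    have hPQ : (X - C r) * Q = P₁ := mul_divByMonic_eq_iff_isRoot.mpr hroot
    have hP₁ : P₁.Monic := hP.map _
    have hQ : Q.Monic := (monic_X_sub_C r).of_mul_monic_left (hPQ ▸ hP₁)
    have hQd : Q.natDegree = d := by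
      have h1 := congrArg natDegree hPQ
      rw [(monic_X_sub_C r).natDegree_mul hQ, natDegree_X_sub_C, hP₁def,
        hP.natDegree_map, hd] at h1
      omega
    obtain ⟨A', _, _, β, hfree, hfin, hff, hsplit⟩ := ih (AdjoinRoot P) Q hQ hQd
    letI : Algebra A A' :=
      ((algebraMap (AdjoinRoot P) A').comp (algebraMap A (AdjoinRoot P))).toAlgebra
    haveI : IsScalarTower A (AdjoinRoot P) A' := IsScalarTower.of_algebraMap_eq (fun _ => rfl)
    refine ⟨A', inferInstance, inferInstance, Fin.cons (algebraMap (AdjoinRoot P) A' r) β,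
      ?_, ?_, ?_, ?_⟩
    · exact Module.Free.trans (R := A) (S := AdjoinRoot P) (M := A')
    · exact Module.Finite.trans (AdjoinRoot P) A'
    · exact Module.FaithfullyFlat.trans A (AdjoinRoot P) A'
    · have h1 : P.map (algebraMap A A') = P₁.map (algebraMap (AdjoinRoot P) A') := by
        rw [hP₁def, Polynomial.map_map]
        rfl
      rw [h1, ← hPQ, Polynomial.map_mul, hsplit, Fin.prod_univ_succ]
      simp [Fin.cons_zero, Fin.cons_succ]

section Sections

variable {A' : Type u} [CommRing A'] {D : Type u} [CommRing D] [Algebra A' D]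

theorem exists_cover_sections : ∀ (n : ℕ) (dd : Fin n → D) (deg : Fin n → ℕ)
    (α : ∀ k, Fin (deg k) → A')
    (hroot : ∀ k, ∏ l, (dd k - algebraMap A' D (α k l)) = 0),
    ∃ (C' : Type u) (_ : CommRing C') (_ : Algebra A' C') (π : C' →ₐ[A'] D)
      (ι : Type) (_ : Finite ι) (σ : ι → (C' →ₐ[A'] A')),
      Module.Free A' C' ∧ Module.Finite A' C' ∧ (∀ k, dd k ∈ π.range) ∧
      ∀ q : Ideal C', q.IsPrime → ∃ j, RingHom.ker (σ j) ≤ q := by
  intro n
  induction n with
  | zero =>
    intro dd deg α hroot
    refine ⟨A', inferInstance, inferInstance, Algebra.ofId A' D, Unit, inferInstance,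
      fun _ => AlgHom.id A' A', inferInstance, inferInstance, fun k => k.elim0, ?_⟩
    intro q hq
    refine ⟨(), ?_⟩
    intro x hx
    have : x = 0 := hx
    rw [this]; exact zero_mem _
  | succ n ih =>
    intro dd deg α hroot
    obtain ⟨C', _, _, π, ι, _, σ, hfree, hfin, hrange, hcover⟩ :=
      ih (fun k => dd k.castSucc) (fun k => deg k.castSucc) (fun k => α k.castSucc)
        (fun k => hroot k.castSucc)
    set k₀ : Fin (n + 1) := Fin.last n with hk₀
    set a : Fin (deg k₀) → C' := fun l => algebraMap A' C' (α k₀ l) with ha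
    set P : C'[X] := ∏ l, (X - C (a l)) with hPdef
    have hPmonic : P.Monic := monic_prod_of_monic _ _ (fun l _ => monic_X_sub_C (a l))
    have hfree₂ : Module.Free C' (AdjoinRoot P) :=
      Module.Free.of_basis (AdjoinRoot.powerBasis' hPmonic).basis
    have hfin₂ : Module.Finite C' (AdjoinRoot P) := (AdjoinRoot.powerBasis' hPmonic).finite
    -- the map to `D`
    have hπP : P.eval₂ (π : C' →+* D) (dd k₀) = 0 := by
      rw [hPdef, eval₂_finsetProd]
      rw [← hroot k₀]
      refine Finset.prod_congr rfl (fun l _ => ?_)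
      rw [eval₂_sub, eval₂_X, eval₂_C]
      simp [ha]
    let π' : AdjoinRoot P →ₐ[A'] D := AdjoinRoot.liftAlgHom P π (dd k₀) hπP
    -- the sections
    have hσP : ∀ (j : ι) (l : Fin (deg k₀)), P.eval₂ (σ j : C' →+* A') (α k₀ l) = 0 := by
      intro j l
      rw [hPdef, eval₂_finsetProd]
      refine Finset.prod_eq_zero (Finset.mem_univ l) ?_
      rw [eval₂_sub, eval₂_X, eval₂_C]
      simp [ha]
    let σ' : ι × Fin (deg k₀) → (AdjoinRoot P →ₐ[A'] A') := fun jl =>
      AdjoinRoot.liftAlgHom P (σ jl.1) (α k₀ jl.2) (hσP jl.1 jl.2)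
    refine ⟨AdjoinRoot P, inferInstance, inferInstance, π', ι × Fin (deg k₀), inferInstance, σ',
      ?_, ?_, ?_, ?_⟩
    · exact Module.Free.trans (R := A') (S := C') (M := AdjoinRoot P)
    · exact Module.Finite.trans C' (AdjoinRoot P)
    · intro k
      refine Fin.lastCases ?_ (fun k' => ?_) k
      · exact ⟨AdjoinRoot.root P, AdjoinRoot.liftAlgHom_root _ _ _ _⟩
      · obtain ⟨c, hc⟩ := hrange k'
        exact ⟨AdjoinRoot.of P c, (AdjoinRoot.liftAlgHom_of _ _ _ _ c).trans hc⟩
    · intro q hq
      haveI := hq
      obtain ⟨j, hj⟩ := hcover (q.comap (AdjoinRoot.of P)) inferInstance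
      -- some linear factor lies in `q`
      have hprod : ∏ l, (AdjoinRoot.root P - AdjoinRoot.of P (a l)) = 0 := by
        have := AdjoinRoot.eval₂_root P
        rw [hPdef, eval₂_finsetProd] at this
        rw [← this]
        refine Finset.prod_congr rfl (fun l _ => ?_)
        rw [eval₂_sub, eval₂_X, eval₂_C]
      have hmem : ∏ l, (AdjoinRoot.root P - AdjoinRoot.of P (a l)) ∈ q := by
        rw [hprod]; exact zero_mem _
      obtain ⟨l, -, hl⟩ := (hq.prod_mem_iff).mp hmem
      refine ⟨(j, l), ?_⟩
      intro c hc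
      obtain ⟨g, rfl⟩ := AdjoinRoot.mk_surjective c
      obtain ⟨h, hh⟩ := X_sub_C_dvd_sub_C_eval (a := a l) (p := g)
      -- `mk g = of (g.eval (a l)) + (root - of (a l)) * mk h`
      have hdecomp : AdjoinRoot.mk P g =
          AdjoinRoot.of P (g.eval (a l)) +
            (AdjoinRoot.root P - AdjoinRoot.of P (a l)) * AdjoinRoot.mk P h := by
        have : g = C (g.eval (a l)) + (X - C (a l)) * h := by rw [← hh]; ring
        conv_lhs => rw [this]
        rw [map_add, map_mul, map_sub, AdjoinRoot.mk_C, AdjoinRoot.mk_X, AdjoinRoot.mk_C]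
      have hσroot : σ' (j, l) (AdjoinRoot.root P - AdjoinRoot.of P (a l)) = 0 := by
        rw [map_sub, AdjoinRoot.liftAlgHom_root, AdjoinRoot.liftAlgHom_of]
        simp [ha]
      have hσc : σ j (g.eval (a l)) = 0 := by
        have h1 : σ' (j, l) (AdjoinRoot.mk P g) = 0 := hc
        rw [hdecomp, map_add, map_mul, hσroot, zero_mul, add_zero,
          AdjoinRoot.liftAlgHom_of] at h1
        exact h1
      rw [hdecomp]
      refine q.add_mem ?_ (q.mul_mem_right _ hl)
      exact hj hσc

end Sections

end Groth.Agent.Helper2.SplitAlg
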