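import Mathlib
import Groth.Agent.Lib.Helper2.SplitAlg.Basic
import Groth.Agent.Lib.Helper9.FE.WStr2

/-!
# Standard étale algebras acquire sections after splitting the monic polynomial
-/

set_option autoImplicit false
set_option backward.isDefEq.respectTransparency.types false
set_option synthInstance.maxHeartbeats 400000
set_option maxHeartbeats 4000000
set_option linter.style.haveILetI false
set_option linter.unusedSectionVars false
set_option linter.unusedVariables false

universe u

namespace Groth.Agent.Helper2.SplitAlg

open Polynomial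

theorem exists_root_section {R : Type u} [CommRing R] (P : StandardEtalePair R)
    {R' : Type u} [CommRing R'] [Algebra R R'] {d : ℕ} (r : Fin d → R')
    (hr : P.f.map (algebraMap R R') = ∏ l, (X - C (r l)))
    (q : Ideal P.Ring) [q.IsPrime] (t : Ideal R') [t.IsPrime]
    (hqt : q.comap (algebraMap R P.Ring) = t.comap (algebraMap R R')) :
    ∃ l, aeval (r l) P.g ∉ t ∧
      ∃ hmap : P.HasMap (algebraMap R' (Localization.Away (aeval (r l) P.g)) (r l)),
        ∀ J : Ideal (Localization.Away (aeval (r l) P.g)), J.IsPrime →
          J.comap (algebraMap R' (Localization.Away (aeval (r l) P.g))) = t →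
          J.comap (P.lift _ hmap).toRingHom = q := by
  obtain ⟨Ω, _, β, γ, hβγ, hkβ, hkγ⟩ :=
    H9FE.WStr.exists_field_of_comap_eq' (algebraMap R P.Ring) (algebraMap R R') q t hqt
  letI : Algebra R Ω := (β.comp (algebraMap R P.Ring)).toAlgebra
  let β' : P.Ring →ₐ[R] Ω := { β with commutes' := fun _ => rfl }
  let γ' : R' →ₐ[R] Ω := { γ with commutes' := fun a => (congr($hβγ a)).symm }
  set ξ : Ω := β P.X with hξdef
  have hξ : P.HasMap ξ := (P.hasMap_X).map β'
  have h1 : P.f.eval₂ (algebraMap R Ω) ξ = 0 := hξ.1
  have h2 : ∏ l, (ξ - γ (r l)) = 0 := by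
    have h3 : (P.f.map (algebraMap R R')).eval₂ γ ξ = 0 := by
      rw [eval₂_map, ← hβγ]
      exact h1
    rw [hr, eval₂_finsetProd] at h3
    simpa only [eval₂_sub, eval₂_X, eval₂_C] using h3
  obtain ⟨l, -, hl⟩ := Finset.prod_eq_zero_iff.mp h2
  have hξl : ξ = γ (r l) := sub_eq_zero.mp hl
  refine ⟨l, ?_, ?_⟩
  · intro hmem
    have h0 : γ (aeval (r l) P.g) = 0 := by
      rw [← hkγ] at hmem
      exact hmem
    have h4 : aeval ξ P.g = γ (aeval (r l) P.g) := by
      rw [hξl]
      exact aeval_algHom_apply γ' (r l) P.g
    have := hξ.2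
    rw [h4, h0] at this
    exact not_isUnit_zero this
  set a : R' := aeval (r l) P.g with ha
  have hγa : IsUnit (γ a) := by
    have h4 : aeval ξ P.g = γ a := by
      rw [hξl]
      exact aeval_algHom_apply γ' (r l) P.g
    rw [← h4]
    exact hξ.2
  have hmap : P.HasMap (algebraMap R' (Localization.Away a) (r l)) := by
    constructor
    · rw [aeval_algebraMap_apply]
      have : aeval (r l) P.f = 0 := by
        rw [← eval_map_algebraMap, hr, eval_prod]
        refine Finset.prod_eq_zero (Finset.mem_univ l) ?_
        simp
      rw [this, map_zero]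
    · rw [aeval_algebraMap_apply]
      exact IsLocalization.Away.algebraMap_isUnit a
  refine ⟨hmap, ?_⟩
  let γL : Localization.Away a →+* Ω := IsLocalization.Away.lift a hγa
  have hγL : ∀ x, γL (algebraMap R' (Localization.Away a) x) = γ x :=
    fun x => IsLocalization.Away.lift_eq a hγa x
  let γL' : Localization.Away a →ₐ[R] Ω :=
    { γL with
      commutes' := fun c => by
        show γL (algebraMap R (Localization.Away a) c) = algebraMap R Ω c
        rw [IsScalarTower.algebraMap_apply R R' (Localization.Away a), hγL]
        exact (congr($hβγ c)).symm }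
  have hcomp : γL'.comp (P.lift _ hmap) = β' := by
    refine StandardEtalePair.hom_ext ?_
    show γL (P.lift _ hmap P.X) = β P.X
    rw [StandardEtalePair.lift_X, hγL, ← hξl]
  intro J hJ hJt
  have hJ₀ : (RingHom.ker γL).comap (algebraMap R' (Localization.Away a)) = t := by
    rw [← hkγ]
    ext x
    simp only [Ideal.mem_comap, RingHom.mem_ker, hγL]
  have hJeq : J = RingHom.ker γL := by
    rw [← IsLocalization.map_under (Submonoid.powers a) (Localization.Away a) J,
      ← IsLocalization.map_under (Submonoid.powers a) (Localization.Away a) (RingHom.ker γL)]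
    have e1 : Ideal.under R' J = t := hJt
    have e2 : Ideal.under R' (RingHom.ker γL) = t := hJ₀
    rw [e1, e2]
  rw [hJeq, ← hkβ]
  ext x
  simp only [Ideal.mem_comap, RingHom.mem_ker]
  have := congrArg (fun g => g x) hcomp
  simp only [AlgHom.comp_apply] at this
  constructor
  · intro h
    rw [← show β' x = β x from rfl, ← this]
    exact h
  · intro h
    have h' : β' x = 0 := h
    rw [← this] at h'
    exact h'

end Groth.Agent.Helper2.SplitAlg
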