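import Mathlib
import Groth.Agent.Lib.Helper2.SplitAlg.EtaleRoot

/-!
# Étale neighbourhoods are dominated, Zariski locally, by finite locally free covers
-/

set_option autoImplicit false
set_option backward.isDefEq.respectTransparency.types false
set_option synthInstance.maxHeartbeats 400000
set_option maxHeartbeats 4000000
set_option linter.style.haveILetI false
set_option linter.unusedSectionVars false
set_option linter.unusedVariables false

universe u

namespace Groth.Agent.Helper2.SplitAlg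

open CategoryTheory CategoryTheory.Limits AlgebraicGeometry Polynomial

theorem etale_nbhd_main {U S : Scheme.{u}} (e : U ⟶ S) [Etale e] (u : U) (s : S) (hu : e u = s) :
    ∃ (V : S.Opens) (T : Scheme.{u}) (π : T ⟶ (V : Scheme.{u})), s ∈ V ∧ IsAffineOpen V ∧
      Surjective π ∧ IsFinite π ∧ Flat π ∧ LocallyOfFinitePresentation π ∧
      ∀ t : T, V.ι (π t) = s → ∃ (W : T.Opens) (h : (W : Scheme.{u}) ⟶ U), t ∈ W ∧
        h ≫ e = W.ι ≫ π ≫ V.ι ∧ ∀ ht : t ∈ W, h ⟨t, ht⟩ = u := by
  -- affine neighbourhoods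
  obtain ⟨V, hV, hsV, -⟩ := exists_isAffineOpen_mem_and_subset (x := s) (U := ⊤) trivial
  have huV : u ∈ e ⁻¹ᵁ V := by
    show e u ∈ V
    rw [hu]; exact hsV
  obtain ⟨U₀, hU₀, huU₀, hle⟩ := exists_isAffineOpen_mem_and_subset (x := u) (U := e ⁻¹ᵁ V) huV
  letI : Algebra Γ(S, V) Γ(U, U₀) := (e.appLE V U₀ hle).hom.toAlgebra
  have het : (e.appLE V U₀ hle).hom.Etale := Etale.etale_appLE e hV hU₀ hle
  haveI : Algebra.Etale Γ(S, V) Γ(U, U₀) := het
  -- the prime of `u`
  let Q : PrimeSpectrum Γ(U, U₀) := hU₀.primeIdealOf ⟨u, huU₀⟩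
  have hQu : hU₀.fromSpec Q = u := hU₀.fromSpec_primeIdealOf ⟨u, huU₀⟩
  haveI : Algebra.IsEtaleAt Γ(S, V) Q.asIdeal :=
    Algebra.FormallyEtale.comp Γ(S, V) Γ(U, U₀) (Localization.AtPrime Q.asIdeal)
  obtain ⟨g₀, hg₀, hstd⟩ := Algebra.IsEtaleAt.exists_isStandardEtale (R := Γ(S, V)) Q.asIdeal
  let Pres : StandardEtalePresentation Γ(S, V) (Localization.Away g₀) :=
    hstd.nonempty_standardEtalePresentation.some
  let P : StandardEtalePair Γ(S, V) := Pres.P
  let eqv : Localization.Away g₀ ≃ₐ[Γ(S, V)] P.Ring := Pres.equivRing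
  -- the map `Γ(U, U₀) → P.Ring`
  let ψ : Γ(U, U₀) →+* P.Ring :=
    (eqv : Localization.Away g₀ →+* P.Ring).comp (algebraMap Γ(U, U₀) (Localization.Away g₀))
  have hψ : ψ.comp (e.appLE V U₀ hle).hom = algebraMap Γ(S, V) P.Ring := by
    ext c
    show eqv (algebraMap Γ(U, U₀) (Localization.Away g₀) (algebraMap Γ(S, V) Γ(U, U₀) c)) = _
    rw [← IsScalarTower.algebraMap_apply Γ(S, V) Γ(U, U₀) (Localization.Away g₀)]
    exact eqv.commutes c
  let j : Spec (.of P.Ring) ⟶ U := Spec.map (CommRingCat.ofHom ψ) ≫ hU₀.fromSpec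
  have hje : j ≫ e = Spec.map (CommRingCat.ofHom (algebraMap Γ(S, V) P.Ring)) ≫ hV.fromSpec := by
    dsimp only [j]
    rw [Category.assoc, ← IsAffineOpen.SpecMap_appLE_fromSpec e hV hU₀ hle, ← Category.assoc,
      ← Spec.map_comp]
    congr 2
    ext c
    exact congrArg (fun g => g c) hψ
  -- the prime of `P.Ring` over `Q`
  have hdisj : Disjoint (Submonoid.powers g₀ : Set Γ(U, U₀)) (Q.asIdeal : Set Γ(U, U₀)) := by
    rw [Set.disjoint_left]
    rintro x ⟨n, rfl⟩ hx
    exact hg₀ (Q.isPrime.mem_of_pow_mem n hx)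
  let Q' : Ideal (Localization.Away g₀) :=
    Ideal.map (algebraMap Γ(U, U₀) (Localization.Away g₀)) Q.asIdeal
  haveI hQ'prime : Q'.IsPrime :=
    IsLocalization.isPrime_of_isPrime_disjoint (Submonoid.powers g₀) _ _ Q.isPrime hdisj
  have hQ'comap : Q'.comap (algebraMap Γ(U, U₀) (Localization.Away g₀)) = Q.asIdeal :=
    IsLocalization.under_map_of_isPrime_disjoint (Submonoid.powers g₀) _ Q.isPrime hdisj
  let q : Ideal P.Ring := Q'.comap (eqv.symm : P.Ring →+* Localization.Away g₀)
  haveI hqprime : q.IsPrime := Ideal.comap_isPrime _ _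
  let xq : Spec (.of P.Ring) := ⟨q, hqprime⟩
  have hxq : (Spec.map (CommRingCat.ofHom ψ)) xq = Q := by
    apply PrimeSpectrum.ext
    show (q.comap ψ) = Q.asIdeal
    rw [← hQ'comap]
    ext x
    simp only [Ideal.mem_comap, q, ψ, RingHom.comp_apply]
    show eqv.symm (eqv _) ∈ Q' ↔ _
    rw [AlgEquiv.symm_apply_apply]
  have hjxq : j xq = u := by
    dsimp only [j]
    rw [Scheme.Hom.comp_apply, hxq, hQu]
  -- the splitting algebra
  obtain ⟨R', _, _, α, hfree, hfin, hff, hsplit⟩ :=
    exists_splitting P.f.natDegree Γ(S, V) P.f P.monic_f rfl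
  let π₀ : Spec (.of R') ⟶ Spec Γ(S, V) := Spec.map (CommRingCat.ofHom (algebraMap Γ(S, V) R'))
  let π : Spec (.of R') ⟶ (V : Scheme.{u}) := π₀ ≫ hV.isoSpec.inv
  have hπι : π ≫ V.ι = π₀ ≫ hV.fromSpec := by
    dsimp only [π]
    rw [Category.assoc, IsAffineOpen.isoSpec_inv_ι]
  have hπ₀fin : IsFinite π₀ := by
    rw [IsFinite.SpecMap_iff]
    exact RingHom.finite_algebraMap.mpr hfin
  have hπ₀flat : Flat π₀ := by
    rw [Flat.SpecMap_iff]
    exact RingHom.flat_algebraMap_iff.mpr (inferInstance : Module.Flat Γ(S, V) R')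
  have hπ₀fp : LocallyOfFinitePresentation π₀ := by
    rw [LocallyOfFinitePresentation.SpecMap_iff]
    haveI : Module.FinitePresentation Γ(S, V) R' := Module.finitePresentation_of_projective _ _
    exact RingHom.finitePresentation_algebraMap.mpr
      (inferInstance : Algebra.FinitePresentation Γ(S, V) R')
  have hπ₀surj : Surjective π₀ := by
    rw [surjective_iff]
    exact PrimeSpectrum.comap_surjective_of_faithfullyFlat
  refine ⟨V, Spec (.of R'), π, hsV, hV, ?_, ?_, ?_, ?_, ?_⟩
  · dsimp only [π]; infer_instance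
  · dsimp only [π]; infer_instance
  · dsimp only [π]; infer_instance
  · dsimp only [π]; infer_instance
  intro t ht
  -- `t` and `q` lie over the same prime
  have hsame : (Spec.map (CommRingCat.ofHom (algebraMap Γ(S, V) P.Ring))) xq = π₀ t := by
    apply hV.fromSpec.isOpenEmbedding.injective
    have h1 : hV.fromSpec ((Spec.map (CommRingCat.ofHom (algebraMap Γ(S, V) P.Ring))) xq) = s := by
      rw [← Scheme.Hom.comp_apply, ← hje, Scheme.Hom.comp_apply, hjxq, hu]
    have h2 : hV.fromSpec (π₀ t) = s := by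
      rw [← Scheme.Hom.comp_apply, ← hπι, Scheme.Hom.comp_apply]
      exact ht
    rw [h1, h2]
  have hqt : q.comap (algebraMap Γ(S, V) P.Ring) = t.asIdeal.comap (algebraMap Γ(S, V) R') :=
    congrArg PrimeSpectrum.asIdeal hsame
  haveI := t.isPrime
  obtain ⟨l, hat, hmap, H⟩ := exists_root_section P α hsplit q t.asIdeal hqt
  set a : R' := aeval (α l) P.g with ha
  let W : (Spec (.of R')).Opens := PrimeSpectrum.basicOpen a
  let iso : (W : Scheme.{u}) ≅ Spec (.of (Localization.Away a)) :=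
    basicOpenIsoSpecAway (R := .of R') a
  have hiso : iso.hom ≫ Spec.map (CommRingCat.ofHom (algebraMap R' (Localization.Away a))) = W.ι :=
    basicOpenIsoSpecAway_hom_SpecMap (R := .of R') a
  let lft : P.Ring →ₐ[Γ(S, V)] Localization.Away a := P.lift _ hmap
  let h : (W : Scheme.{u}) ⟶ U := iso.hom ≫ Spec.map (CommRingCat.ofHom lft.toRingHom) ≫ j
  have htW : t ∈ W := hat
  refine ⟨W, h, htW, ?_, ?_⟩
  · dsimp only [h]
    rw [Category.assoc, Category.assoc, hje, hπι, ← hiso, Category.assoc]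
    congr 1
    rw [← Category.assoc, ← Category.assoc, ← Spec.map_comp, ← Spec.map_comp]
    congr 2
    ext c
    show lft (algebraMap Γ(S, V) P.Ring c) = algebraMap R' (Localization.Away a)
      (algebraMap Γ(S, V) R' c)
    rw [lft.commutes, ← IsScalarTower.algebraMap_apply]
  · intro ht'
    dsimp only [h]
    rw [Scheme.Hom.comp_apply, Scheme.Hom.comp_apply]
    set y : Spec (.of (Localization.Away a)) := iso.hom ⟨t, ht'⟩ with hy
    have hy1 : (Spec.map (CommRingCat.ofHom (algebraMap R' (Localization.Away a)))) y = t := by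
      rw [hy, ← Scheme.Hom.comp_apply, hiso]
      rfl
    have hy2 : y.asIdeal.comap (algebraMap R' (Localization.Away a)) = t.asIdeal :=
      congrArg PrimeSpectrum.asIdeal hy1
    have hy3 := H y.asIdeal y.isPrime hy2
    have hy4 : (Spec.map (CommRingCat.ofHom lft.toRingHom)) y = xq := by
      apply PrimeSpectrum.ext
      exact hy3
    rw [hy4, hjxq]

end Groth.Agent.Helper2.SplitAlg
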