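import Mathlib
import Groth.Agent.Lib.Helper2.SplitAlg.EtaleNbhd

/-!
# Étale neighbourhoods are dominated by finite locally free covers, Zariski locally
(version where *every* point of the cover has a neighbourhood mapping to the étale neighbourhood)
-/

set_option autoImplicit false
set_option backward.isDefEq.respectTransparency.types false
set_option synthInstance.maxHeartbeats 400000
set_option maxHeartbeats 4000000
set_option linter.style.haveILetI false
set_option linter.unusedSectionVars false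
set_option linter.unusedVariables false

universe u

namespace Groth.Agent.Helper2.SplitAlg

open CategoryTheory CategoryTheory.Limits AlgebraicGeometry

theorem etale_nbhd_all {U S : Scheme.{u}} (e : U ⟶ S) [Etale e] (u : U) (s : S) (hu : e u = s) :
    ∃ (V : S.Opens) (T : Scheme.{u}) (π : T ⟶ (V : Scheme.{u})), s ∈ V ∧ Surjective π ∧
      IsFinite π ∧ Flat π ∧ LocallyOfFinitePresentation π ∧
      ∀ t : T, ∃ (W : T.Opens) (h : (W : Scheme.{u}) ⟶ U), t ∈ W ∧ h ≫ e = W.ι ≫ π ≫ V.ι := by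
  obtain ⟨V, T, π, hsV, hVaff, hsurj, hfin, hflat, hfp, H⟩ := etale_nbhd_main e u s hu
  let Good : Set T := {t | ∃ (W : T.Opens) (h : (W : Scheme.{u}) ⟶ U),
    t ∈ W ∧ h ≫ e = W.ι ≫ π ≫ V.ι}
  have hGoodOpen : IsOpen Good := by
    rw [isOpen_iff_forall_mem_open]
    rintro t ⟨W, h, htW, hc⟩
    exact ⟨W, fun t' ht' => ⟨W, h, ht', hc⟩, W.isOpen, htW⟩
  have hfib : ∀ t : T, V.ι (π t) = s → t ∈ Good := by
    intro t ht
    obtain ⟨W, h, htW, hc, -⟩ := H t ht
    exact ⟨W, h, htW, hc⟩
  have hclosed : IsClosed (π '' Goodᶜ) := π.isClosedMap _ hGoodOpen.isClosed_compl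
  let O : (V : Scheme.{u}).Opens := ⟨(π '' Goodᶜ)ᶜ, hclosed.isOpen_compl⟩
  let sV : (V : Scheme.{u}) := ⟨s, hsV⟩
  have hsO : sV ∈ O := by
    rintro ⟨t, htBad, htπ⟩
    refine htBad (hfib t ?_)
    rw [htπ]
    rfl
  let V'' : S.Opens := V.ι ''ᵁ O
  have hle : V'' ≤ V := V.ι_image_le O
  have hsV'' : s ∈ V'' := ⟨sV, hsO, rfl⟩
  let j : (V'' : Scheme.{u}) ⟶ (V : Scheme.{u}) := S.homOfLE hle
  have hj : j ≫ V.ι = V''.ι := S.homOfLE_ι hle
  have hjO : ∀ x : (V'' : Scheme.{u}), j x ∈ O := by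
    intro x
    obtain ⟨o, ho, hox⟩ := x.2
    have h1 : V.ι (j x) = V.ι o := by
      rw [← Scheme.Hom.comp_apply, hj]
      exact hox.symm
    rw [V.ι.isOpenEmbedding.injective h1]
    exact ho
  refine ⟨V'', pullback π j, pullback.snd π j, hsV'', inferInstance, inferInstance,
    inferInstance, inferInstance, ?_⟩
  intro t''
  have hcond : π (pullback.fst π j t'') = j (pullback.snd π j t'') := by
    rw [← Scheme.Hom.comp_apply, ← Scheme.Hom.comp_apply, pullback.condition]
  have hgood : pullback.fst π j t'' ∈ Good := by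
    by_contra hbad
    have h1 : π (pullback.fst π j t'') ∈ π '' Goodᶜ := ⟨_, hbad, rfl⟩
    have h2 := hjO (pullback.snd π j t'')
    rw [← hcond] at h2
    exact h2 h1
  obtain ⟨W, h, htW, hc⟩ := hgood
  refine ⟨pullback.fst π j ⁻¹ᵁ W, (pullback.fst π j ∣_ W) ≫ h, htW, ?_⟩
  rw [Category.assoc, hc, ← Category.assoc, morphismRestrict_ι, Category.assoc,
    ← Category.assoc (pullback.fst π j), pullback.condition, Category.assoc, hj]

end Groth.Agent.Helper2.SplitAlg
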