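import Mathlib
import Groth.Agent.Lib.Helper2.SplitAlg.Basic

/-!
# Finite morphisms to an affine scheme are, after a finite locally free surjective base change,
closed subschemes of a finite locally free scheme that is a finite union of sections
-/

set_option autoImplicit false
set_option backward.isDefEq.respectTransparency.types false
set_option synthInstance.maxHeartbeats 400000
set_option maxHeartbeats 4000000
set_option linter.style.haveILetI false
set_option linter.unusedSectionVars false
set_option linter.unusedVariables false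

universe u

namespace Groth.Agent.Helper2.SplitAlg

open Polynomial TensorProduct

theorem exists_splitting_family : ∀ (n : ℕ) (A : Type u) [CommRing A] (P : Fin n → A[X]),
    (∀ k, (P k).Monic) →
    ∃ (A' : Type u) (_ : CommRing A') (_ : Algebra A A'),
      Module.Free A A' ∧ Module.Finite A A' ∧ Module.FaithfullyFlat A A' ∧
      ∀ k, ∃ (d : ℕ) (α : Fin d → A'), (P k).map (algebraMap A A') = ∏ l, (X - C (α l)) := by
  intro n
  induction n with
  | zero =>
    intro A _ P hP
    exact ⟨A, inferInstance, inferInstance, inferInstance, inferInstance, inferInstance,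
      fun k => k.elim0⟩
  | succ n ih =>
    intro A _ P hP
    obtain ⟨A₁, _, _, hfree₁, hfin₁, hff₁, hsplit₁⟩ :=
      ih A (fun k => P k.castSucc) (fun k => hP k.castSucc)
    obtain ⟨A₂, _, _, β, hfree₂, hfin₂, hff₂, hsplit₂⟩ :=
      exists_splitting _ A₁ ((P (Fin.last n)).map (algebraMap A A₁)) ((hP (Fin.last n)).map _) rfl
    letI : Algebra A A₂ := ((algebraMap A₁ A₂).comp (algebraMap A A₁)).toAlgebra
    haveI : IsScalarTower A A₁ A₂ := IsScalarTower.of_algebraMap_eq (fun _ => rfl)
    refine ⟨A₂, inferInstance, inferInstance, ?_, ?_, ?_, ?_⟩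
    · exact Module.Free.trans (R := A) (S := A₁) (M := A₂)
    · exact Module.Finite.trans A₁ A₂
    · exact Module.FaithfullyFlat.trans A A₁ A₂
    · intro k
      have hmap : ∀ Q : A[X], Q.map (algebraMap A A₂) =
          (Q.map (algebraMap A A₁)).map (algebraMap A₁ A₂) := by
        intro Q
        rw [Polynomial.map_map]
        rfl
      refine Fin.lastCases ?_ (fun k' => ?_) k
      · exact ⟨_, β, (hmap _).trans hsplit₂⟩
      · obtain ⟨d, α, hα⟩ := hsplit₁ k'
        refine ⟨d, fun l => algebraMap A₁ A₂ (α l), ?_⟩
        rw [hmap, hα, Polynomial.map_prod]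
        refine Finset.prod_congr rfl (fun l _ => ?_)
        rw [Polynomial.map_sub, Polynomial.map_X, Polynomial.map_C]

theorem ring_main (A B : Type u) [CommRing A] [CommRing B] [Algebra A B] [Module.Finite A B] :
    ∃ (A' : Type u) (_ : CommRing A') (_ : Algebra A A') (C' : Type u) (_ : CommRing C')
      (_ : Algebra A' C') (π : C' →+* B ⊗[A] A') (m : ℕ) (σ : Fin m → C' →+* A'),
      Module.Free A A' ∧ Module.Finite A A' ∧ Module.FaithfullyFlat A A' ∧
      Module.Free A' C' ∧ Module.Finite A' C' ∧ Function.Surjective π ∧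
      π.comp (algebraMap A' C') =
        (Algebra.TensorProduct.includeRight : A' →ₐ[A] B ⊗[A] A').toRingHom ∧
      (∀ j, (σ j).comp (algebraMap A' C') = RingHom.id A') ∧
      ∀ q : Ideal C', q.IsPrime → ∃ j, RingHom.ker (σ j) ≤ q := by
  obtain ⟨n, s, hs⟩ := Module.Finite.exists_fin (R := A) (M := B)
  have hint : ∀ k, IsIntegral A (s k) := fun k => Algebra.IsIntegral.isIntegral (s k)
  choose P hPmonic hPeval using hint
  obtain ⟨A', _, _, hfree, hfin, hff, hsplit⟩ := exists_splitting_family n A P hPmonic
  choose deg α hα using hsplit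
  letI : Algebra A' (B ⊗[A] A') := Algebra.TensorProduct.rightAlgebra
  set dd : Fin n → B ⊗[A] A' := fun k => s k ⊗ₜ[A] (1 : A') with hdd
  have htower : algebraMap A (B ⊗[A] A') =
      (algebraMap A' (B ⊗[A] A')).comp (algebraMap A A') :=
    IsScalarTower.algebraMap_eq A A' (B ⊗[A] A')
  have hroot : ∀ k, ∏ l, (dd k - algebraMap A' (B ⊗[A] A') (α k l)) = 0 := by
    intro k
    have h1 : (P k).eval₂ (algebraMap A (B ⊗[A] A')) (dd k) = 0 := by
      have := congrArg (Algebra.TensorProduct.includeLeftRingHom : B →+* B ⊗[A] A') (hPeval k)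
      rw [map_zero, Polynomial.hom_eval₂] at this
      rw [← this]
      congr 1
    rw [htower, ← Polynomial.eval₂_map, hα k, eval₂_finsetProd] at h1
    rw [← h1]
    refine Finset.prod_congr rfl (fun l _ => ?_)
    rw [eval₂_sub, eval₂_X, eval₂_C]
  obtain ⟨C', _, _, π, ι, _, σ, hfreeC, hfinC, hrange, hcover⟩ :=
    exists_cover_sections n dd deg α hroot
  have hsurj : Function.Surjective π := by
    -- the range of `π` is an `A'`-subalgebra containing all `s k ⊗ 1`
    have hB : ∀ b : B, (b ⊗ₜ[A] (1 : A') : B ⊗[A] A') ∈ π.range := by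
      intro b
      have hb : b ∈ Submodule.span A (Set.range s) := by rw [hs]; trivial
      induction hb using Submodule.span_induction with
      | mem x hx =>
        obtain ⟨k, rfl⟩ := hx
        exact hrange k
      | zero => rw [TensorProduct.zero_tmul]; exact zero_mem _
      | add x y _ _ hx hy => rw [TensorProduct.add_tmul]; exact add_mem hx hy
      | smul a x _ hx =>
        have : ((a • x) ⊗ₜ[A] (1 : A') : B ⊗[A] A') =
            algebraMap A' (B ⊗[A] A') (algebraMap A A' a) * (x ⊗ₜ[A] (1 : A')) := by
          rw [← RingHom.comp_apply, ← htower, Algebra.TensorProduct.algebraMap_apply,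
            Algebra.TensorProduct.tmul_mul_tmul, one_mul, Algebra.smul_def]
        rw [this]
        exact mul_mem (π.range.algebraMap_mem _) hx
    intro x
    have hx : x ∈ π.range := by
      induction x using TensorProduct.induction_on with
      | zero => exact zero_mem _
      | tmul b a' =>
        have : (b ⊗ₜ[A] a' : B ⊗[A] A') =
            algebraMap A' (B ⊗[A] A') a' * (b ⊗ₜ[A] (1 : A')) := by
          change _ = ((1 : B) ⊗ₜ[A] a') * _
          rw [Algebra.TensorProduct.tmul_mul_tmul, one_mul, mul_one]
        rw [this]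
        exact mul_mem (π.range.algebraMap_mem _) (hB b)
      | add x y hx hy => exact add_mem hx hy
    exact hx
  let e := Finite.equivFin ι
  refine ⟨A', inferInstance, inferInstance, C', inferInstance, inferInstance, π.toRingHom,
    Nat.card ι, fun j => (σ (e.symm j)).toRingHom, hfree, hfin, hff, hfreeC, hfinC, hsurj,
    ?_, ?_, ?_⟩
  · exact π.comp_algebraMap
  · intro j
    ext a
    simp
  · intro q hq
    obtain ⟨j, hj⟩ := hcover q hq
    refine ⟨e j, ?_⟩
    intro x hx
    refine hj ?_
    have hx' : (σ (e.symm (e j))) x = 0 := hx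
    rw [Equiv.symm_apply_apply] at hx'
    exact hx'

end Groth.Agent.Helper2.SplitAlg
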