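import Mathlib
import Groth.Agent.Lib.Helper2.SplitAlg.Cover

/-!
# Scheme-level version of the splitting-algebra cover of a finite morphism
-/

set_option autoImplicit false
set_option backward.isDefEq.respectTransparency.types false
set_option synthInstance.maxHeartbeats 400000
set_option maxHeartbeats 4000000
set_option linter.style.haveILetI false
set_option linter.unusedSectionVars false
set_option linter.unusedVariables false

universe u

namespace Groth.Agent.Helper2.SplitAlg

open CategoryTheory CategoryTheory.Limits AlgebraicGeometry TensorProduct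

theorem scheme_main {X Y : Scheme.{u}} [IsAffine X] (f : Y ⟶ X) [IsFinite f] :
    ∃ (X' : Scheme.{u}) (b : X' ⟶ X) (Z' : Scheme.{u}) (c : Z' ⟶ X') (i : pullback f b ⟶ Z'),
      (IsFinite b ∧ Flat b ∧ LocallyOfFinitePresentation b) ∧ Surjective b ∧
      (IsFinite c ∧ Flat c ∧ LocallyOfFinitePresentation c) ∧ IsClosedImmersion i ∧
      i ≫ c = pullback.snd f b ∧
      ∃ (m : ℕ) (Zj : Fin m → Scheme.{u}) (ιj : ∀ j, Zj j ⟶ Z'),
        (∀ j, IsClosedImmersion (ιj j)) ∧ (∀ j, IsIso (ιj j ≫ c)) ∧
        (⋃ j, Set.range (ιj j).base) = Set.univ := by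
  haveI : IsAffine Y := isAffine_of_isAffineHom f
  letI : Algebra Γ(X, ⊤) Γ(Y, ⊤) := f.appTop.hom.toAlgebra
  have hfin0 : f.appTop.hom.Finite := by
    have := (HasAffineProperty.iff_of_isAffine (P := @IsFinite) (f := f)).mp inferInstance
    exact this.2
  haveI : Module.Finite Γ(X, ⊤) Γ(Y, ⊤) := hfin0
  obtain ⟨A', _, _, C', _, _, π, m, σ, hfree, hfin, hff, hfreeC, hfinC, hsurj, hπ, hσ, hcover⟩ :=
    ring_main Γ(X, ⊤) Γ(Y, ⊤)
  -- the base change morphism
  let b₀ : Spec (.of A') ⟶ Spec Γ(X, ⊤) := Spec.map (CommRingCat.ofHom (algebraMap Γ(X, ⊤) A'))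
  let b : Spec (.of A') ⟶ X := b₀ ≫ X.isoSpec.inv
  let c : Spec (.of C') ⟶ Spec (.of A') := Spec.map (CommRingCat.ofHom (algebraMap A' C'))
  have hb₀fin : IsFinite b₀ := by
    rw [IsFinite.SpecMap_iff]
    exact RingHom.finite_algebraMap.mpr hfin
  have hb₀flat : Flat b₀ := by
    rw [Flat.SpecMap_iff]
    exact RingHom.flat_algebraMap_iff.mpr (inferInstance : Module.Flat Γ(X, ⊤) A')
  have hb₀fp : LocallyOfFinitePresentation b₀ := by
    rw [LocallyOfFinitePresentation.SpecMap_iff]
    haveI : Module.FinitePresentation Γ(X, ⊤) A' := Module.finitePresentation_of_projective _ _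
    exact RingHom.finitePresentation_algebraMap.mpr
      (inferInstance : Algebra.FinitePresentation Γ(X, ⊤) A')
  have hb₀surj : Surjective b₀ := by
    rw [surjective_iff]
    exact PrimeSpectrum.comap_surjective_of_faithfullyFlat
  have hcfin : IsFinite c := by
    rw [IsFinite.SpecMap_iff]
    exact RingHom.finite_algebraMap.mpr hfinC
  have hcflat : Flat c := by
    rw [Flat.SpecMap_iff]
    exact RingHom.flat_algebraMap_iff.mpr (inferInstance : Module.Flat A' C')
  have hcfp : LocallyOfFinitePresentation c := by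
    rw [LocallyOfFinitePresentation.SpecMap_iff]
    haveI : Module.FinitePresentation A' C' := Module.finitePresentation_of_projective _ _
    exact RingHom.finitePresentation_algebraMap.mpr
      (inferInstance : Algebra.FinitePresentation A' C')
  -- identify the pullback
  have hpb : IsPullback (pullback.fst f b ≫ Y.isoSpec.hom) (pullback.snd f b)
      (Spec.map f.appTop) b₀ := by
    refine IsPullback.of_iso (IsPullback.of_hasPullback f b) (Iso.refl _) Y.isoSpec (Iso.refl _)
      X.isoSpec ?_ ?_ ?_ ?_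
    · simp
    · simp
    · exact (Scheme.isoSpec_hom_naturality f).symm
    · simp [b]
  let e : pullback f b ≅ pullback (Spec.map f.appTop) b₀ := hpb.isoPullback
  have he : e.hom ≫ pullback.snd _ _ = pullback.snd f b := hpb.isoPullback_hom_snd
  let i₀ : pullback (Spec.map f.appTop) b₀ ⟶ Spec (.of C') :=
    (pullbackSpecIso Γ(X, ⊤) Γ(Y, ⊤) A').hom ≫ Spec.map (CommRingCat.ofHom π)
  have hi₀ : i₀ ≫ c = pullback.snd _ _ := by
    simp only [i₀, c, Category.assoc, ← Spec.map_comp, ← CommRingCat.ofHom_comp, hπ]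
    exact pullbackSpecIso_hom_snd Γ(X, ⊤) Γ(Y, ⊤) A'
  haveI : IsClosedImmersion (Spec.map (CommRingCat.ofHom π)) :=
    IsClosedImmersion.spec_of_surjective _ hsurj
  haveI : IsClosedImmersion i₀ := by
    dsimp only [i₀]
    infer_instance
  refine ⟨Spec (.of A'), b, Spec (.of C'), c, e.hom ≫ i₀, ⟨?_, ?_, ?_⟩, ?_, ⟨hcfin, hcflat, hcfp⟩,
    ?_, ?_, m, fun _ => Spec (.of A'), fun j => Spec.map (CommRingCat.ofHom (σ j)), ?_, ?_, ?_⟩
  · dsimp only [b]; infer_instance
  · dsimp only [b]; infer_instance
  · dsimp only [b]; infer_instance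
  · dsimp only [b]; infer_instance
  · infer_instance
  · rw [Category.assoc, hi₀, he]
  · intro j
    refine IsClosedImmersion.spec_of_surjective _ ?_
    intro a
    refine ⟨algebraMap A' C' a, ?_⟩
    have := congrArg (fun g => g a) (hσ j)
    simpa using this
  · intro j
    dsimp only [c]
    rw [← Spec.map_comp, ← CommRingCat.ofHom_comp, hσ j]
    have : CommRingCat.ofHom (RingHom.id A') = 𝟙 (CommRingCat.of A') := rfl
    rw [this, Spec.map_id]
    infer_instance
  · rw [Set.eq_univ_iff_forall]
    intro z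
    obtain ⟨j, hj⟩ := hcover z.asIdeal z.isPrime
    rw [Set.mem_iUnion]
    refine ⟨j, ?_⟩
    have hsj : Function.Surjective (σ j) := by
      intro a
      refine ⟨algebraMap A' C' a, ?_⟩
      have := congrArg (fun g => g a) (hσ j)
      simpa using this
    change z ∈ Set.range (PrimeSpectrum.comap (σ j))
    rw [range_comap_of_surjective _ _ hsj]
    exact hj

end Groth.Agent.Helper2.SplitAlg
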